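import Groth.Agent.AbSch.K448.Isogeny
import Groth.Prelude.Def_AgPol

/-!
# The kernel of a finite flat homomorphism of abelian schemes is killed by a positive integer

Node KILL of S14325 (`K258.PlanKey2.exists_kills`).
-/

set_option autoImplicit false
universe u

open CategoryTheory MonoidalCategory CartesianMonoidalCategory MonObj GrpObj AlgebraicGeometry Limits Opposite

namespace K458.Kill

/-- The rank along the unit section of a finite locally free homomorphism over a connected base is a positive
constant. -/
theorem exists_rank {V : Scheme.{u}} [ConnectedSpace V] (A B : Over V) [GrpObj A] [GrpObj B]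
    (lam : A ⟶ B) [IsMonHom lam] [IsFinite lam.left] [Flat lam.left] [LocallyOfFinitePresentation lam.left] :
    ∃ n : ℕ, 1 ≤ n ∧ ∀ s : V, Scheme.Hom.finrank lam.left (η[B].left s) = n := by
  have hlc : IsLocallyConstant (fun s : V => Scheme.Hom.finrank lam.left (η[B].left s)) :=
    (Scheme.Hom.isLocallyConstant_finrank lam.left).comp_continuous η[B].left.continuous
  obtain ⟨s₀⟩ := (inferInstance : Nonempty V)
  refine ⟨Scheme.Hom.finrank lam.left (η[B].left s₀), ?_, fun s => hlc.apply_eq_of_preconnectedSpace s s₀⟩
  have h1 : η[B].left s₀ = lam.left (η[A].left s₀) := by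
    have h2 : η[A] ≫ lam = η[B] := IsMonHom.one_hom lam
    rw [← h2]
    rfl
  rw [h1]
  exact Scheme.Hom.one_le_finrank_map lam.left _

/-- NODE KILL: the kernel of a finite flat homomorphism of abelian schemes over a connected Noetherian base is
killed by a positive integer. -/
theorem exists_kills {V : Scheme.{u}} [IsNoetherian V] [ConnectedSpace V] (A B : Over V) [GrpObj A]
    [IsCommMonObj A] [GrpObj B] [IsCommMonObj B] {g : ℕ} (hA : AgPol.IsAbSch A g) (hB : AgPol.IsAbSch B g)
    (lam : A ⟶ B) [IsMonHom lam] (hfin : IsFinite lam.left) (hflat : Flat lam.left) :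
    ∃ m : ℕ, 1 ≤ m ∧ ∀ (T : Over V) (x : T ⟶ A), x ≫ lam = 1 → x ^ m = 1 := by
  have := hA.smooth
  have := hB.smooth
  have hlfp : LocallyOfFinitePresentation lam.left := by
    have h1 : LocallyOfFinitePresentation (lam.left ≫ B.hom) := by
      rw [Over.w]; infer_instance
    exact Groth.Agent.UnramA.LfpOfComp.lfp_of_comp lam.left B.hom h1 inferInstance
  obtain ⟨n, hn, hr⟩ := exists_rank A B lam
  exact ⟨n, hn, fun T x hx => K448.Isogeny.pow_eq_one_of_ker lam n hr x hx⟩

end K458.Kill
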